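import Groth.Prelude.Def_BrSev
import Groth.Agent.H5.FinLocFreeOps
import Groth.Agent.H18.TwistTensor2
import Groth.Agent.H54.ProjClosedPt

/-!
# Tensor products of direct sums of twisting sheaves (for Severi–Brauer statements)

`(∐_r A) ⊗ (∐_s B) ≅ ∐_{r s} (A ⊗ B)` for O_X-modules, and `O_e(j) ⊗ O_e(l) ≅ O_e(j + l)` for a
splitting `e`.
-/

set_option autoImplicit false
universe u
open CategoryTheory CategoryTheory.Limits AlgebraicGeometry

namespace Groth.Agent.H71.BrSevTensor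

variable {X : Scheme.{u}}

/-- the tensor product, in bifunctor form -/
noncomputable abbrev T (A B : X.Modules) : X.Modules := ((DCoh.tensorBi (X := X)).obj A).obj B

/-- `A ⊗ ∐ B_i ≅ ∐ (A ⊗ B_i)` -/
noncomputable def tensorSigmaRight (A : X.Modules) (s : ℕ) (B : Fin s → X.Modules) :
    T A (∐ B) ≅ ∐ fun i => T A (B i) :=
  haveI : PreservesColimitsOfSize.{u, u} ((DCoh.tensorBi (X := X)).obj A) :=
    Groth.Agent.H45.preservesColimits_tensorBi_obj (O := X.sheaf) A
  haveI : PreservesColimitsOfSize.{0, 0} ((DCoh.tensorBi (X := X)).obj A) :=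
    preservesColimitsOfSize_shrink.{0, u, 0, u} _
  PreservesCoproduct.iso ((DCoh.tensorBi (X := X)).obj A) B

/-- symmetry of the tensor product -/
noncomputable def tComm (A B : X.Modules) : T A B ≅ T B A :=
  Groth.Agent.H18.tensorModComm A B

/-- `(∐_r A) ⊗ (∐_s B) ≅ ∐_{r s} (A ⊗ B)` -/
noncomputable def tensorPowIso (A B : X.Modules) (r s : ℕ) :
    T (BrSev.pow A r) (BrSev.pow B s) ≅ BrSev.pow (T A B) (r * s) :=
  tensorSigmaRight (BrSev.pow A r) s (fun _ => B) ≪≫
    Sigma.mapIso (fun _ : Fin s => tComm (BrSev.pow A r) B ≪≫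
      tensorSigmaRight B r (fun _ => A) ≪≫ Sigma.mapIso (fun _ : Fin r => tComm B A)) ≪≫
    sigmaSigmaIso (fun _ : Fin s => Fin r) (fun _ _ => T A B) ≪≫
    Sigma.reindex (((Equiv.sigmaEquivProd (Fin s) (Fin r)).trans (Equiv.prodComm _ _)).trans
      finProdFinEquiv) (fun _ : Fin (r * s) => T A B)

section Twist

variable {k : Type u} [Field k] {p : X ⟶ Spec (CommRingCat.of k)}
  {K : Type u} [Field K] [Algebra k K] {n : ℕ}

theorem nonempty_twist_tensor (j l : ℤ) :
    Nonempty (CohB1.tensorMod (Twist.twistProjSpace n K j) (Twist.twistProjSpace n K l) ≅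
      Twist.twistProjSpace n K (j + l)) := by
  refine Groth.Agent.H18.TwMul.nonempty_tensorMod_tilde_twist_iso (CohB1.polyGrading n K)
    (CohB1.polyGrading n K) (fun x => ?_) j l (j + l) rfl
  obtain ⟨i, hi⟩ := Groth.Agent.H54.PL.exists_X_notMem K n x
  exact ⟨MvPolynomial.X i,
    (MvPolynomial.mem_homogeneousSubmodule 1 _).mpr (MvPolynomial.isHomogeneous_X K i), hi⟩

/-- `O_e(j) ⊗ O_e(l) ≅ O_e(j + l)` -/
theorem nonempty_splitting_twist_tensor (e : BrSev.Splitting p K n) (j l : ℤ) :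
    Nonempty (T (e.twist j) (e.twist l) ≅ e.twist (j + l)) := by
  obtain ⟨φ⟩ := nonempty_twist_tensor (n := n) (K := K) j l
  exact ⟨(Groth.Agent.H5.PullbackTensor.pullbackTensorIso e.iso.hom _ _).symm ≪≫
    (Scheme.Modules.pullback e.iso.hom).mapIso φ⟩

theorem isTwPow_tensorMod (e : BrSev.Splitting p K n) (j l : ℤ) (r s : ℕ)
    (W W' : X.Modules) (hWt : BrSev.IsTwPow e j r W) (hW't : BrSev.IsTwPow e l s W') :
    BrSev.IsTwPow e (j + l) (r * s) (CohB1.tensorMod W W') := by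
  obtain ⟨a⟩ := hWt
  obtain ⟨b⟩ := hW't
  obtain ⟨c⟩ := nonempty_splitting_twist_tensor e j l
  exact ⟨Groth.Agent.H5.PullbackTensor.pullbackTensorIso (BrSev.proj p K) W W' ≪≫
    Groth.Agent.H5.FinLocFreeOps.tensorIso a b ≪≫ tensorPowIso _ _ r s ≪≫
    Sigma.mapIso (fun _ => c)⟩

end Twist

end Groth.Agent.H71.BrSevTensor
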